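import Groth.Agent.Rigid.DimDrop
import Groth.Agent.BivarOps.IntMultLemmas
import Groth.Agent.SectRank.Bound
import Groth.Agent.GenComp.GenericOpen
import Groth.Agent.DvrDom.ClosedProper
import Groth.Agent.ClosedRep.GeomIntegral
import Groth.Agent.S2500
import Mathlib.AlgebraicGeometry.Group.Abelian
import Mathlib.AlgebraicGeometry.AlgClosed.Basic

/-!
A prime divisor disjoint from a curve is stable under translation by differences of points of the curve.
-/

set_option autoImplicit false
set_option backward.isDefEq.respectTransparency false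
set_option backward.isDefEq.respectTransparency.types false
set_option linter.style.haveILetI false
set_option maxHeartbeats 1000000
set_option synthInstance.maxHeartbeats 400000

universe u

open CategoryTheory CategoryTheory.Limits AlgebraicGeometry TopologicalSpace MonoidalCategory
  CartesianMonoidalCategory MonObj

noncomputable section

namespace Groth.Agent.CurveTrans

variable {k : Type u} [Field k]

section Sub

variable {X : Over (Spec (CommRingCat.of k))}

/-- The reduced closed subvariety on a closed subset. -/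
def sub (Z : Closeds X.left) : Over (Spec (CommRingCat.of k)) :=
  Over.mk ((Scheme.IdealSheafData.vanishingIdeal Z).subschemeι ≫ X.hom)

/-- Its inclusion. -/
def subι (Z : Closeds X.left) : sub Z ⟶ X :=
  Over.homMk (Scheme.IdealSheafData.vanishingIdeal Z).subschemeι rfl

instance (Z : Closeds X.left) : IsClosedImmersion (subι Z).left :=
  inferInstanceAs (IsClosedImmersion (Scheme.IdealSheafData.vanishingIdeal Z).subschemeι)

instance [IsProper X.hom] (Z : Closeds X.left) : IsProper (sub Z).hom :=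
  inferInstanceAs (IsProper ((Scheme.IdealSheafData.vanishingIdeal Z).subschemeι ≫ X.hom))

theorem range_subι (Z : Closeds X.left) : Set.range (subι Z).left = (Z : Set X.left) := by
  show Set.range (Scheme.IdealSheafData.vanishingIdeal Z).subschemeι = _
  rw [Scheme.IdealSheafData.range_subschemeι, Scheme.IdealSheafData.coe_support_vanishingIdeal]
  try rfl

theorem subι_mem (Z : Closeds X.left) (z : (sub Z).left) : (subι Z).left z ∈ (Z : Set X.left) := by
  rw [← range_subι]; exact ⟨z, rfl⟩

theorem irreducibleSpace_sub (Z : Closeds X.left) (hZ : IsIrreducible (Z : Set X.left)) :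
    IrreducibleSpace (sub Z).left := by
  have h1 : IsIrreducible (Set.range (subι Z).left) := (range_subι Z).symm ▸ hZ
  haveI : IrreducibleSpace (Set.range (subι Z).left) := Subtype.irreducibleSpace h1
  exact ((subι Z).left.isClosedEmbedding.isEmbedding.toHomeomorph.symm.surjective.irreducibleSpace
    (subι Z).left.isClosedEmbedding.isEmbedding.toHomeomorph.symm.continuous)

theorem dim_sub (Z : Closeds X.left) : topologicalKrullDim (sub Z).left = topologicalKrullDim (Z : Set X.left) :=
  IsHomeomorph.topologicalKrullDim_eq _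
    (((subι Z).left.isClosedEmbedding.isEmbedding.toHomeomorph).trans
      (Homeomorph.setCongr (range_subι Z))).isHomeomorph

end Sub

variable [IsAlgClosed k]

theorem point_ext {X : Over (Spec (CommRingCat.of k))} [LocallyOfFiniteType X.hom]
    {a b : 𝟙_ (Over (Spec (CommRingCat.of k))) ⟶ X}
    (h : a.left (IsLocalRing.closedPoint k) = b.left (IsLocalRing.closedPoint k)) : a = b :=
  Over.OverMorphism.ext (ext_of_apply_closedPoint_eq X.hom (Over.w a) (Over.w b) h)

theorem exists_point_eq {X : Over (Spec (CommRingCat.of k))} [LocallyOfFiniteType X.hom] (x : X.left)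
    (hx : IsClosed ({x} : Set X.left)) :
    ∃ a : 𝟙_ (Over (Spec (CommRingCat.of k))) ⟶ X, a.left (IsLocalRing.closedPoint k) = x :=
  ⟨Over.homMk (pointOfClosedPoint X.hom x hx) (pointOfClosedPoint_comp X.hom x hx),
    pointOfClosedPoint_apply X.hom x hx _⟩

theorem isClosed_point {X : Over (Spec (CommRingCat.of k))} [LocallyOfFiniteType X.hom]
    (a : 𝟙_ (Over (Spec (CommRingCat.of k))) ⟶ X) :
    IsClosed ({a.left (IsLocalRing.closedPoint k)} : Set X.left) :=
  (pointEquivClosedPoint X.hom ⟨a.left, Over.w a⟩).2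

theorem mem_of_factors {X : Over (Spec (CommRingCat.of k))} {Z : Closeds X.left}
    (a : 𝟙_ (Over (Spec (CommRingCat.of k))) ⟶ sub Z) :
    (a ≫ subι Z).left (IsLocalRing.closedPoint k) ∈ (Z : Set X.left) := subι_mem Z _

theorem exists_factor {X : Over (Spec (CommRingCat.of k))} [IsProper X.hom] (Z : Closeds X.left)
    (x : 𝟙_ (Over (Spec (CommRingCat.of k))) ⟶ X)
    (hx : x.left (IsLocalRing.closedPoint k) ∈ (Z : Set X.left)) :
    ∃ c, c ≫ subι Z = x := by
  rw [← range_subι] at hx
  obtain ⟨z, hz⟩ := hx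
  have hzc : IsClosed ({z} : Set (sub Z).left) := by
    have := (isClosed_point x).preimage (subι Z).left.continuous
    rwa [← hz, ← Set.image_singleton,
      (subι Z).left.isClosedEmbedding.injective.preimage_image] at this
  obtain ⟨c, hc⟩ := exists_point_eq z hzc
  exact ⟨c, point_ext ((congrArg (subι Z).left hc).trans hz)⟩

/-- A finite closed set with closed points makes the fibre zero-dimensional. -/
theorem fiber_dim_le_zero {X Y : Scheme.{u}} (f : X ⟶ Y) [JacobsonSpace X] (y : Y)
    (hy : IsClosed ({y} : Set Y)) (hfin : (f ⁻¹' {y} ∩ closedPoints X).Finite) :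
    topologicalKrullDim ↥(f.fiber y) ≤ 0 := by
  have hF : f ⁻¹' {y} = f ⁻¹' {y} ∩ closedPoints X := by
    refine le_antisymm ?_ Set.inter_subset_left
    have h1 := JacobsonSpace.closure_inter_closedPoints (hy.preimage f.continuous)
    have h2 : IsClosed (f ⁻¹' {y} ∩ closedPoints X) := by
      rw [← Set.biUnion_of_singleton (f ⁻¹' {y} ∩ closedPoints X)]
      exact hfin.isClosed_biUnion fun p hp => hp.2
    rw [h2.closure_eq] at h1
    exact h1.ge
  have hr : Set.range (f.fiberι y) = f ⁻¹' {y} := f.range_fiberι y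
  haveI : Finite ↥(f.fiber y) := by
    have : (Set.range (f.fiberι y)).Finite := by rw [hr, hF]; exact hfin
    haveI := this.to_subtype
    exact Finite.of_equiv _ (Equiv.ofInjective _ (f.fiberι y).isEmbedding.injective).symm
  haveI : T1Space ↥(f.fiber y) := ⟨fun a => by
    have : IsClosed ({f.fiberι y a} : Set X) := by
      have ha : f.fiberι y a ∈ f ⁻¹' {y} := by rw [← hr]; exact ⟨a, rfl⟩
      rw [hF] at ha
      exact ha.2
    have h := this.preimage (f.fiberι y).continuous
    rwa [← Set.image_singleton, (f.fiberι y).isEmbedding.injective.preimage_image] at h⟩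
  exact topologicalKrullDim_zero_of_discreteTopology _

/-- A proper closed subset of an irreducible curve is finite. -/
theorem finite_of_curve {T : Scheme.{u}} [IrreducibleSpace T] [NoetherianSpace T]
    (hdim : topologicalKrullDim T ≤ 1) {S : Set T} (hS : IsClosed S) (hne : S ≠ Set.univ) : S.Finite := by
  have hgen : genericPoint T ∉ S := fun h => hne (Set.eq_univ_of_univ_subset (by
    rw [← (genericPoint_spec T).def]
    exact hS.closure_subset_iff.2 (Set.singleton_subset_iff.2 h)))
  obtain ⟨C, hC, hCcl, hCirr, hCU⟩ := NoetherianSpace.exists_finite_set_isClosed_irreducible hS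
  rw [hCU]
  refine Set.Finite.sUnion hC fun c hc => ?_
  obtain ⟨z, hz⟩ := QuasiSober.sober (hCirr c hc) (hCcl c hc)
  have hzS : z ∈ S := hCU ▸ Set.mem_sUnion_of_mem hz.mem hc
  rw [← hz.def, ((GenComp.topologicalKrullDim_le_one_iff T).1 hdim z
    (fun h => hgen (h ▸ hzS))).closure_eq]
  exact Set.finite_singleton z

variable (A : Over (Spec (CommRingCat.of k))) [GrpObj A] [IsProper A.hom]

/-- The key containment: the translate of a rational point of the divisor lies in it. -/
theorem mem_of_points [Smooth A.hom] [GeometricallyConnected A.hom]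
    (Cc Dc : Closeds A.left) (hCirr : IsIrreducible (Cc : Set A.left))
    (hCdim : topologicalKrullDim (Cc : Set A.left) = 1)
    (ξ : A.left) (hξ : closure {ξ} = (Dc : Set A.left))
    (hcodim : ringKrullDim (A.left.presheaf.stalk ξ) = 1)
    (hdisj : Disjoint (Cc : Set A.left) Dc)
    (c c' : 𝟙_ (Over (Spec (CommRingCat.of k))) ⟶ sub Cc)
    (d : 𝟙_ (Over (Spec (CommRingCat.of k))) ⟶ sub Dc) :
    ((d ≫ subι Dc) * ((c ≫ subι Cc)⁻¹ * (c' ≫ subι Cc))).left (IsLocalRing.closedPoint k) ∈
      (Dc : Set A.left) := by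
  haveI : GeometricallyIntegral A.hom := ClosedRep.GeomIntegral.geometricallyIntegral_of_smooth A.hom
  haveI : IsIntegral A.left :=
    GeometricallyIntegral.isIntegral_of_subsingleton A.hom
  haveI := irreducibleSpace_sub Cc hCirr
  haveI := irreducibleSpace_sub Dc (hξ ▸ isIrreducible_singleton.closure)
  haveI : GeometricallyIrreducible (sub Cc).hom := Groth.Agent.S2500.result (sub Cc).hom
  haveI : Subsingleton (Spec (CommRingCat.of k)) := inferInstanceAs (Subsingleton (PrimeSpectrum k))
  haveI hPirr : IrreducibleSpace (sub Cc ⊗ sub Dc).left :=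
    inferInstanceAs (IrreducibleSpace ↥(pullback (sub Cc).hom (sub Dc).hom))
  haveI : IsProper (sub Cc ⊗ sub Dc).hom :=
    inferInstanceAs (IsProper (pullback.fst (sub Cc).hom (sub Dc).hom ≫ (sub Cc).hom))
  haveI : IsLocallyNoetherian A.left := LocallyOfFiniteType.isLocallyNoetherian A.hom
  haveI : IsLocallyNoetherian (sub Cc).left := LocallyOfFiniteType.isLocallyNoetherian (sub Cc).hom
  haveI : CompactSpace (sub Cc).left := QuasiCompact.compactSpace_of_compactSpace (sub Cc).hom
  haveI : AlgebraicGeometry.IsNoetherian (sub Cc).left := {}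
  -- dimensions
  have hdim : topologicalKrullDim A.left ≤ topologicalKrullDim (sub Cc ⊗ sub Dc).left := by
    obtain ⟨h1, h2, h3⟩ := SectRank.pdim_prod (sub Cc).hom (sub Dc).hom
      (ξ := genericPoint (pullback (sub Cc).hom (sub Dc).hom : Scheme.{u}))
      (fun z hz => (hz.antisymm (genericPoint_specializes z)).eq)
    rw [← h1 _ (genericPoint_specializes _), ← h2 _ (genericPoint_specializes _)] at h3
    have hC1 : (WeilCoh.pdim (sub Cc).left (genericPoint (sub Cc).left) : WithBot ℕ∞) = 1 := by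
      have := Rigid.topologicalKrullDim_eq_pdim (sub Cc).hom
      rw [dim_sub, hCdim] at this
      exact this.symm
    have hDξ : (subι Dc).left (genericPoint (sub Dc).left) = ξ := by
      have := (genericPoint_spec (sub Dc).left).image (subι Dc).left.continuous
      rw [Set.image_univ, range_subι, Dc.isClosed.closure_eq, ← hξ] at this
      exact this.eq isGenericPoint_closure
    have hD : WeilCoh.pdim A.left ξ = WeilCoh.pdim (sub Dc).left (genericPoint (sub Dc).left) := by
      rw [← hDξ]
      exact BMCoh.pdim_eq_of_isClosedEmbedding _ (subι Dc).left.isClosedEmbedding _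
    have hA := Rigid.topologicalKrullDim_eq_pdim A.hom
    obtain ⟨hs, hle⟩ := BivarOps.ringKrullDim_stalk_eq A.hom (WeilCoh.pdim A.left (genericPoint A.left))
      (by simpa using hA) ξ
    rw [hcodim] at hs
    rw [hA, Rigid.topologicalKrullDim_eq_pdim (sub Cc ⊗ sub Dc).hom]
    have hC1' : WeilCoh.pdim (sub Cc).left (genericPoint (sub Cc).left) = 1 := by exact_mod_cast hC1
    have hs' : 1 = WeilCoh.pdim A.left (genericPoint A.left) - WeilCoh.pdim A.left ξ := by exact_mod_cast hs
    have h3' : WeilCoh.pdim (sub Cc ⊗ sub Dc).left (genericPoint (sub Cc ⊗ sub Dc).left) =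
      WeilCoh.pdim (sub Cc).left (genericPoint (sub Cc).left) +
        WeilCoh.pdim (sub Dc).left (genericPoint (sub Dc).left) := h3
    exact_mod_cast (show WeilCoh.pdim A.left (genericPoint A.left) ≤
      WeilCoh.pdim (sub Cc ⊗ sub Dc).left (genericPoint (sub Cc ⊗ sub Dc).left) by omega)
  -- the difference map
  let φ : sub Cc ⊗ sub Dc ⟶ A := (snd _ _ ≫ subι Dc) * (fst _ _ ≫ subι Cc)⁻¹
  haveI : IsProper (φ.left ≫ A.hom) := by rw [Over.w φ]; infer_instance
  haveI : IsProper φ.left := IsProper.of_comp φ.left A.hom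
  haveI : JacobsonSpace (sub Cc ⊗ sub Dc).left :=
    LocallyOfFiniteType.jacobsonSpace (sub Cc ⊗ sub Dc).hom
  have hφ : ∀ s : 𝟙_ (Over (Spec (CommRingCat.of k))) ⟶ sub Cc ⊗ sub Dc,
      s ≫ φ = (s ≫ snd _ _ ≫ subι Dc) * (s ≫ fst _ _ ≫ subι Cc)⁻¹ := fun s => by
    rw [MonObj.comp_mul, GrpObj.comp_inv]
  have hnot : ¬ Surjective φ.left := by
    intro hsurj
    obtain ⟨p₀, hp₀⟩ := φ.left.surjective (η[A].left (IsLocalRing.closedPoint k))
    obtain ⟨p, hp, hpc⟩ := nonempty_inter_closedPoints
      (⟨p₀, hp₀⟩ : (φ.left ⁻¹' {η[A].left (IsLocalRing.closedPoint k)}).Nonempty)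
      ((isClosed_point η[A]).preimage φ.left.continuous).isLocallyClosed
    obtain ⟨s, hs⟩ := exists_point_eq p hpc
    have h1 : s ≫ φ = η[A] := point_ext ((congrArg φ.left hs).trans hp)
    rw [hφ, ← Category.id_comp η[A]] at h1
    have h2 : s ≫ snd _ _ ≫ subι Dc = s ≫ fst _ _ ≫ subι Cc := by
      rw [← mul_inv_eq_one, h1, toUnit_unique (𝟙 (𝟙_ _)) (toUnit _)]
      rfl
    refine Set.disjoint_left.1 hdisj (mem_of_factors (s ≫ fst _ _)) ?_
    have := mem_of_factors (s ≫ snd (sub Cc) (sub Dc))
    rwa [Category.assoc, h2, ← Category.assoc] at this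
  -- the curve translated by a point of the image
  let a : 𝟙_ (Over (Spec (CommRingCat.of k))) ⟶ A := (d ≫ subι Dc) * (c ≫ subι Cc)⁻¹
  let m : sub Cc ⟶ A := (toUnit _ ≫ a) * subι Cc
  have hm : ∀ e : 𝟙_ (Over (Spec (CommRingCat.of k))) ⟶ sub Cc, e ≫ m = a * (e ≫ subι Cc) := fun e => by
    rw [MonObj.comp_mul, ← Category.assoc, toUnit_unique (e ≫ toUnit _) (𝟙 _), Category.id_comp]
  have hS : m.left ⁻¹' (Dc : Set A.left) = Set.univ := by
    by_contra hne
    have hfinS := finite_of_curve (le_of_eq ((dim_sub Cc).trans hCdim))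
      (Dc.isClosed.preimage m.left.continuous) hne
    let p₁ := (lift c d).left (IsLocalRing.closedPoint k)
    have hp₁ : φ.left p₁ = a.left (IsLocalRing.closedPoint k) := by
      show (lift c d ≫ φ).left (IsLocalRing.closedPoint k) = _
      rw [hφ, lift_snd_assoc, lift_fst_assoc]
    have key : ∀ p ∈ φ.left ⁻¹' {φ.left p₁} ∩ closedPoints (sub Cc ⊗ sub Dc).left,
        ∃ s : 𝟙_ (Over (Spec (CommRingCat.of k))) ⟶ sub Cc ⊗ sub Dc,
          s.left (IsLocalRing.closedPoint k) = p ∧
            s ≫ snd _ _ ≫ subι Dc = a * (s ≫ fst _ _ ≫ subι Cc) := by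
      rintro p ⟨hp, hpc⟩
      obtain ⟨s, hs⟩ := exists_point_eq p hpc
      have h1 : s ≫ φ = a := point_ext ((congrArg φ.left hs).trans (hp.trans hp₁))
      rw [hφ] at h1
      exact ⟨s, hs, mul_inv_eq_iff_eq_mul.1 h1⟩
    refine hnot (Rigid.surjective_of_fiber_dim (sub Cc ⊗ sub Dc).hom A.hom φ.left (Over.w φ)
      φ.left.isClosedMap.isClosed_range hdim p₁
      (fiber_dim_le_zero φ.left _ (by rw [hp₁]; exact isClosed_point a) ?_)).1
    refine Set.Finite.of_finite_image (f := (fst (sub Cc) (sub Dc)).left) (hfinS.subset ?_) ?_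
    · rintro _ ⟨p, hp, rfl⟩
      obtain ⟨s, hs, h⟩ := key p hp
      show m.left ((fst (sub Cc) (sub Dc)).left p) ∈ (Dc : Set A.left)
      have e : m.left ((fst (sub Cc) (sub Dc)).left p) =
          (s ≫ snd _ _ ≫ subι Dc).left (IsLocalRing.closedPoint k) := by
        rw [h, ← Category.assoc s, ← hm, ← hs]
        rfl
      rw [e, ← Category.assoc]
      exact mem_of_factors _
    · intro p hp p' hp' he
      obtain ⟨s, hs, h⟩ := key p hp
      obtain ⟨s', hs', h'⟩ := key p' hp'
      have h1 : s ≫ fst _ _ = s' ≫ fst _ _ := point_ext (by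
        show (fst (sub Cc) (sub Dc)).left (s.left _) = (fst (sub Cc) (sub Dc)).left (s'.left _)
        rw [hs, hs']; exact he)
      have h2 : s ≫ snd _ _ = s' ≫ snd _ _ := by
        refine point_ext ((subι Dc).left.isClosedEmbedding.injective ?_)
        show (s ≫ snd _ _ ≫ subι Dc).left (IsLocalRing.closedPoint k) =
          (s' ≫ snd _ _ ≫ subι Dc).left (IsLocalRing.closedPoint k)
        rw [h, h', ← Category.assoc s, ← Category.assoc s', h1]
      rw [← hs, ← hs', CartesianMonoidalCategory.hom_ext _ _ h1 h2]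
  have hc' : (c' ≫ m).left (IsLocalRing.closedPoint k) ∈ (Dc : Set A.left) := by
    show c'.left (IsLocalRing.closedPoint k) ∈ m.left ⁻¹' (Dc : Set A.left)
    rw [hS]; trivial
  rw [hm, _root_.mul_assoc] at hc'
  exact hc'

/-- **Translation by the difference of two points of the curve fixes the divisor.** -/
theorem main [Smooth A.hom] [GeometricallyConnected A.hom]
    (Δ : Set A.left) (hΔ : IsClosed Δ) (ξ : A.left) (hξ : closure {ξ} = Δ)
    (hcodim : ringKrullDim (A.left.presheaf.stalk ξ) = 1) (C : Set A.left) (hC : IsClosed C)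
    (hCirr : IsIrreducible C) (hCdim : topologicalKrullDim C = 1) (hdisj : Disjoint C Δ)
    (x y : 𝟙_ (Over (Spec (CommRingCat.of k))) ⟶ A) (hx : Set.range x.left.base ⊆ C)
    (hy : Set.range y.left.base ⊆ C) :
    (𝟙 A * (toUnit A ≫ (x * y⁻¹))).left.base ⁻¹' Δ = Δ := by
  haveI : GeometricallyIntegral A.hom := ClosedRep.GeomIntegral.geometricallyIntegral_of_smooth A.hom
  haveI : IsCommMonObj A := isCommMonObj_of_isProper_of_geometricallyIntegral A
  haveI : JacobsonSpace A.left := LocallyOfFiniteType.jacobsonSpace A.hom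
  let Cc : Closeds A.left := ⟨C, hC⟩
  let Dc : Closeds A.left := ⟨Δ, hΔ⟩
  obtain ⟨cx, hcx⟩ := exists_factor Cc x (hx ⟨_, rfl⟩)
  obtain ⟨cy, hcy⟩ := exists_factor Cc y (hy ⟨_, rfl⟩)
  -- both translations map the divisor into itself
  have sub1 : ∀ c c' : 𝟙_ (Over (Spec (CommRingCat.of k))) ⟶ sub Cc,
      Δ ⊆ (𝟙 A * (toUnit A ≫ ((c' ≫ subι Cc) * (c ≫ subι Cc)⁻¹))).left ⁻¹' Δ := by
    intro c c'
    let τ : A ⟶ A := 𝟙 A * (toUnit A ≫ ((c' ≫ subι Cc) * (c ≫ subι Cc)⁻¹))
    show Δ ⊆ τ.left ⁻¹' Δ
    refine (JacobsonSpace.closure_inter_closedPoints hΔ).ge.trans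
      (closure_minimal ?_ (hΔ.preimage τ.left.continuous))
    rintro z ⟨hz, hzc⟩
    obtain ⟨zp, hzp⟩ := exists_point_eq z hzc
    obtain ⟨d, hd⟩ := exists_factor Dc zp (hzp.symm ▸ hz)
    have h := mem_of_points A Cc Dc hCirr hCdim ξ hξ hcodim hdisj c c' d
    rw [hd, mul_comm ((c ≫ subι Cc)⁻¹)] at h
    have hτ : zp ≫ τ = zp * ((c' ≫ subι Cc) * (c ≫ subι Cc)⁻¹) := by
      rw [MonObj.comp_mul, Category.comp_id, ← Category.assoc, toUnit_unique (zp ≫ toUnit A) (𝟙 _),
        Category.id_comp]
    show τ.left z ∈ Δ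
    rw [← hzp]
    show (zp ≫ τ).left (IsLocalRing.closedPoint k) ∈ Δ
    rw [hτ]
    exact h
  refine Set.Subset.antisymm (fun w hw => ?_) ?_
  · have h := sub1 cx cy hw
    rw [hcx, hcy] at h
    have e : (𝟙 A * (toUnit A ≫ (x * y⁻¹))) ≫ (𝟙 A * (toUnit A ≫ (y * x⁻¹))) = 𝟙 A := by
      rw [MonObj.comp_mul, Category.comp_id, ← Category.assoc,
        toUnit_unique ((𝟙 A * (toUnit A ≫ (x * y⁻¹))) ≫ toUnit A) (toUnit A), _root_.mul_assoc,
        ← MonObj.comp_mul, _root_.mul_assoc, inv_mul_cancel_left, mul_inv_cancel, MonObj.comp_one, _root_.mul_one]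
    generalize (𝟙 A * (toUnit A ≫ (x * y⁻¹))) = τ at hw h e ⊢
    generalize (𝟙 A * (toUnit A ≫ (y * x⁻¹))) = τ' at hw h e
    rw [Set.mem_preimage] at h
    have h3 : τ ≫ τ' = 𝟙 A → (τ ≫ τ').left w = w := fun e => by rw [e]; rfl
    rw [← h3 e, Over.comp_left, Scheme.Hom.comp_apply]
    exact h
  · have h := sub1 cy cx
    rwa [hcx, hcy] at h

end Groth.Agent.CurveTrans
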